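import Groth.Agent.CycPBLib.Charts
import Groth.Agent.EGA2SymLib.PBUniq
import Groth.Agent.EGA2SymLib.DegPart
import Mathlib

/-!
# The projective bundle of a finite locally free module is smooth
-/

set_option autoImplicit false
set_option linter.style.haveILetI false
set_option linter.unusedSectionVars false
set_option backward.isDefEq.respectTransparency.types false

universe u

open AlgebraicGeometry CategoryTheory CategoryTheory.Limits Opposite TopologicalSpace MvPolynomial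
open scoped HomogeneousIdeal

noncomputable section

namespace ProjSmoothLib

open CycPBLib

variable {X P : Scheme.{u}}

/-- Polynomial charts over an affine open on which the module is free. -/
theorem exists_charts [IsLocallyNoetherian X] {E : X.Modules} [Coh.IsQCoh E] {n : ℕ} {𝒮 : RelProj.QCGrAlg X} {j₀ : E ⟶ 𝒮.toModule}
    (hS : RelProj.IsGrSymAlg E 𝒮 j₀) {p : P ⟶ X}
    {chart : ∀ (U : X.Opens) (hU : IsAffineOpen U), (((p ⁻¹ᵁ U : P.Opens) : Scheme.{u}) ≅ Proj (𝒮.deg U hU))}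
    (hP : RelProj.IsRelProj 𝒮 p chart) {η : X} {U₀ : X.Opens} (hη₀ : η ∈ U₀)
    (φ₀ : E.restrict U₀.ι ≅ FlatMod.freeMod (↑U₀) (n + 1)) :
    ∃ (U : X.Opens) (hU : IsAffineOpen U) (c : Fin (n + 1) → (Spec (CommRingCat.of (Pol Γ(X, U) n)) ⟶ P)),
      η ∈ U ∧ (∀ j, IsOpenImmersion (c j)) ∧ (∀ z, p z ∈ U → ∃ j, z ∈ Set.range (c j)) ∧
      ∀ j, c j ≫ p = Spec.map (CommRingCat.ofHom (C : Γ(X, U) →+* Pol Γ(X, U) n)) ≫ hU.fromSpec := by
  classical
  obtain ⟨U, hU, hη, hle⟩ := exists_isAffineOpen_mem_and_subset (X := X) (x := η) (U := U₀) hη₀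
  obtain ⟨b⟩ := FittLib.nonempty_basis_of_iso E φ₀ (V := U) hle
  obtain ⟨φ⟩ := OmegaAffLib.nonempty_restrict_iso_freeMod hU E b
  let R : Type u := Γ(X, U)
  let 𝒜 := 𝒮.deg U hU
  let str : R →+* 𝒮.presheaf.obj (op U) := (𝒮.str.app (op U)).hom
  let ρ : R →+* 𝒜 0 := (𝒮.strZero U hU).hom
  let x : Fin (n + 1) → 𝒮.presheaf.obj (op U) := fun k => j₀.app U (bas φ k)
  have hx : ∀ k, x k ∈ 𝒜 1 := fun k => hS.2 U hU _
  have hgen : Function.Surjective (eval₂Hom ((algebraMap (𝒜 0) (𝒮.presheaf.obj (op U))).comp ρ) x) := by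
    rw [← RingHom.range_eq_top]
    refine eq_top_iff.2 ((SymGenLib.gen_eq_top 𝒮.toQCAlg j₀ hS.1 U hU).ge.trans ?_)
    refine Subring.closure_le.2 ?_
    rintro _ (⟨r, rfl⟩ | ⟨e, rfl⟩)
    · exact ⟨C r, eval₂Hom_C _ _ r⟩
    · obtain ⟨c, hc⟩ := (Submodule.mem_span_range_iff_exists_fun _).1 (span_bas φ e)
      refine ⟨∑ k, C (c k) * MvPolynomial.X k, ?_⟩
      simp only [map_sum, map_mul, eval₂Hom_C, eval₂Hom_X']
      rw [← hc]
      refine Eq.trans ?_ (map_sum (j₀.app U).hom _ _).symm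
      exact Finset.sum_congr rfl fun k _ => (QCohLib.app_smul j₀ U (c k) (bas φ k)).symm
  -- the evaluations
  let T := Spec (CommRingCat.of (Pol R n))
  let g : T ⟶ X := Spec.map (CommRingCat.ofHom (C : R →+* Pol R n)) ≫ hU.fromSpec
  have hg : g ⁻¹ᵁ U = ⊤ := by
    show Spec.map _ ⁻¹ᵁ hU.fromSpec ⁻¹ᵁ U = ⊤
    rw [hU.fromSpec_preimage_self]
    rfl
  have hgapp : g.appLE U ⊤ hg.ge = CommRingCat.ofHom (C : R →+* Pol R n) ≫ (Scheme.ΓSpecIso _).inv := by
    show (Spec.map (CommRingCat.ofHom (C : R →+* Pol R n)) ≫ hU.fromSpec).appLE U ⊤ hg.ge = _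
    rw [← Scheme.Hom.appLE_comp_appLE _ _ U ⊤ ⊤ hU.fromSpec_preimage_self.ge le_top, fromSpec_appLE_self hU]
    erw [CycPBLib.appLE_top]
    rw [Scheme.ΓSpecIso_inv_naturality]
    rfl
  have hΦ : ∀ j : Fin (n + 1), ∃ Φ : 𝒮.presheaf.obj (op U) →+* Pol R n, (∀ r, Φ (str r) = C r) ∧
      ∀ k, Φ (x k) = (Fin.insertNth j 1 (fun m => MvPolynomial.X ⟨m⟩) : Fin (n + 1) → Pol R n) k := by
    intro j
    let v' : Fin (n + 1) → Pol R n := Fin.insertNth j 1 (fun m => MvPolynomial.X ⟨m⟩)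
    let i : (⊤ : T.Opens) ≤ g ⁻¹ᵁ U := hg.ge
    obtain ⟨Φ, h1, h2⟩ := exists_eval φ hS.1 g hg
      fun k => T.presheaf.map (homOfLE (le_top : g ⁻¹ᵁ U ≤ ⊤)).op ((Scheme.ΓSpecIso _).inv (v' k))
    refine ⟨((T.presheaf.map (homOfLE i).op ≫ (Scheme.ΓSpecIso (CommRingCat.of (Pol R n))).hom).hom).comp Φ,
      fun r => ?_, fun k => ?_⟩
    · rw [RingHom.comp_apply, h1, ← CommRingCat.comp_apply]
      show (((g.app U ≫ T.presheaf.map (homOfLE i).op) ≫ (Scheme.ΓSpecIso _).hom)) r = _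
      rw [show g.app U ≫ T.presheaf.map (homOfLE i).op = g.appLE U ⊤ hg.ge from rfl, hgapp, Category.assoc,
        Iso.inv_hom_id, Category.comp_id]
      rfl
    · rw [RingHom.comp_apply, h2, ← CommRingCat.comp_apply, ← Category.assoc, ← Functor.map_comp,
        ← CommRingCat.comp_apply]
      have e : (Scheme.ΓSpecIso (CommRingCat.of (Pol R n))).inv ≫
          T.presheaf.map ((homOfLE (le_top : g ⁻¹ᵁ U ≤ ⊤)).op ≫ (homOfLE i).op) ≫
            (Scheme.ΓSpecIso (CommRingCat.of (Pol R n))).hom = 𝟙 _ := by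
        rw [show ((homOfLE (le_top : g ⁻¹ᵁ U ≤ ⊤)).op ≫ (homOfLE i).op) = 𝟙 _ from rfl,
          T.presheaf.map_id, Category.id_comp, Iso.inv_hom_id]
      exact congr($(e) (v' k))
  choose Φ hΦρ hΦx using hΦ
  let iso : ∀ j, CommRingCat.of (Pol R n) ≅ CommRingCat.of (HomogeneousLocalization.Away 𝒜 (x j)) := fun j =>
    (RingEquiv.ofBijective _ (toAway_bijective 𝒜 ρ x hx hgen j (Φ j) (hΦρ j) (hΦx j))).toCommRingCatIso
  have hisoC : ∀ j, 𝒮.strZero U hU ≫ CommRingCat.ofHom (HomogeneousLocalization.fromZeroRingHom 𝒜 (Submonoid.powers (x j))) ≫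
      (iso j).inv = CommRingCat.ofHom (C : R →+* Pol R n) := by
    intro j
    rw [← Category.assoc, Iso.comp_inv_eq]
    refine CommRingCat.hom_ext (RingHom.ext fun r => ?_)
    show base 𝒜 ρ x j r = toAway 𝒜 ρ x hx j (C r)
    exact (eval₂Hom_C (base 𝒜 ρ x j) (fun m : ULift.{u} (Fin n) => rat 𝒜 x hx j (j.succAbove m.down)) r).symm
  -- the charts
  let emb := RelProj.emb p chart U hU
  have hembU : emb.opensRange = p ⁻¹ᵁ U := MiscFlat6.emb_opensRange U hU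
  let aw : ∀ j, Spec (CommRingCat.of (HomogeneousLocalization.Away 𝒜 (x j))) ⟶ Proj 𝒜 :=
    fun j => Proj.awayι 𝒜 (x j) (hx j) one_pos
  let D : Fin (n + 1) → P.Opens := fun j => emb ''ᵁ Proj.basicOpen 𝒜 (x j)
  have hDle : ∀ j, D j ≤ p ⁻¹ᵁ U := fun j => (emb.image_le_opensRange _).trans hembU.le
  let c : Fin (n + 1) → (T ⟶ P) := fun j => Spec.map (iso j).inv ≫ aw j ≫ emb
  have hembp : emb ≫ p = Proj.toSpecZero 𝒜 ≫ Spec.map (𝒮.strZero U hU) ≫ hU.fromSpec := by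
    show ((chart U hU).inv ≫ (p ⁻¹ᵁ U).ι) ≫ p = _
    rw [Category.assoc, Iso.inv_comp_eq]
    exact (hP.chart_over U hU).symm
  have hrange : ∀ j, (c j).opensRange = D j := fun j => by
    show (Spec.map (iso j).inv ≫ aw j ≫ emb).opensRange = emb ''ᵁ _
    rw [Scheme.Hom.opensRange_comp_of_isIso, Scheme.Hom.opensRange_comp, Proj.opensRange_awayι]
  refine ⟨U, hU, c, hη, fun j => inferInstance, fun z hz => ?_, fun j => ?_⟩
  · obtain ⟨y, rfl⟩ := hembU.ge (show z ∈ p ⁻¹ᵁ U from hz)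
    obtain ⟨f, hf, hyf⟩ := GrTwistLib.exists_basicOpen_of_genDegOne 𝒜 (SymGenLib.isGenDegOne hS U hU) y
    by_contra! hno
    have hk : ∀ k, x k ∈ y.asHomogeneousIdeal := fun k => by_contra fun h => hno k ((hrange k).ge ⟨y, h, rfl⟩)
    obtain ⟨q, rfl⟩ := hgen f
    have key : ∀ q, (DirectSum.decompose 𝒜
        (eval₂Hom ((algebraMap (𝒜 0) (𝒮.presheaf.obj (op U))).comp ρ) x q) 1 : 𝒮.presheaf.obj (op U)) ∈
          y.asHomogeneousIdeal := fun q => by
      induction q using MvPolynomial.induction_on with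
      | C r =>
        rw [eval₂Hom_C]
        show (DirectSum.decompose 𝒜 (ρ r : 𝒮.presheaf.obj (op U)) 1 : 𝒮.presheaf.obj (op U)) ∈ _
        rw [DirectSum.decompose_of_mem_ne 𝒜 (i := 0) (ρ r).2 zero_ne_one]
        exact Ideal.zero_mem _
      | add q q' h h' =>
        rw [map_add, DirectSum.decompose_add, DirectSum.add_apply, AddMemClass.coe_add]
        exact Ideal.add_mem _ h h'
      | mul_X q k _ =>
        refine y.asHomogeneousIdeal.isHomogeneous 1 ?_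
        rw [map_mul, eval₂Hom_X']
        exact Ideal.mul_mem_left _ _ (hk k)
    exact hyf (DirectSum.decompose_of_mem_same 𝒜 hf ▸ key q)
  · show (Spec.map (iso j).inv ≫ aw j ≫ emb) ≫ p = _
    simp only [Category.assoc, hembp]
    rw [Proj.awayι_toSpecZero_assoc, ← Spec.map_comp_assoc, ← Spec.map_comp_assoc]
    rw [← hisoC j]

/-- Nothing lies over an open on which the module is free of rank zero. -/
theorem preimage_empty_of_rank_zero {E : X.Modules} [Coh.IsQCoh E] {𝒮 : RelProj.QCGrAlg X} {j₀ : E ⟶ 𝒮.toModule}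
    (hS : RelProj.IsGrSymAlg E 𝒮 j₀) {p : P ⟶ X}
    {chart : ∀ (U : X.Opens) (hU : IsAffineOpen U), (((p ⁻¹ᵁ U : P.Opens) : Scheme.{u}) ≅ Proj (𝒮.deg U hU))}
    {U₀ : X.Opens} (φ₀ : E.restrict U₀.ι ≅ FlatMod.freeMod (↑U₀) 0) (z : P) (hz : p z ∈ U₀) : False := by
  obtain ⟨U, hU, hzU, hle⟩ := exists_isAffineOpen_mem_and_subset (X := X) (x := p z) (U := U₀) hz
  obtain ⟨b⟩ := FittLib.nonempty_basis_of_iso E φ₀ (V := U) hle
  obtain ⟨f, hf, hyf⟩ := GrTwistLib.exists_basicOpen_of_genDegOne (𝒮.deg U hU) (SymGenLib.isGenDegOne hS U hU)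
    ((chart U hU).hom ⟨z, hzU⟩)
  obtain ⟨m, rfl⟩ := EGA2SymLib.exists_of_mem_one hS U hU hf
  have : m = 0 := b.ext_elem (fun i => i.elim0)
  subst this
  refine hyf ?_
  rw [show EGA2SymLib.jS j₀ U 0 = 0 from map_zero (j₀.app U).hom]
  exact Ideal.zero_mem _

/-- The projective bundle of a finite locally free module is smooth. -/
theorem smooth_projBundle [IsLocallyNoetherian X] {E : X.Modules} [Coh.IsQCoh E] (hE : FlatMod.IsFinLocFree E) {𝒮 : RelProj.QCGrAlg X}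
    {j₀ : E ⟶ 𝒮.toModule} (hS : RelProj.IsGrSymAlg E 𝒮 j₀) {p : P ⟶ X}
    {chart : ∀ (U : X.Opens) (hU : IsAffineOpen U), (((p ⁻¹ᵁ U : P.Opens) : Scheme.{u}) ≅ Proj (𝒮.deg U hU))}
    (hP : RelProj.IsRelProj 𝒮 p chart) : Smooth p := by
  have h : ∀ z : P, ∃ V : P.Opens, z ∈ V ∧ Smooth (V.ι ≫ p) := fun z => by
    obtain ⟨U₀, m, hz, ⟨φ₀⟩⟩ := hE (p z)
    cases m with
    | zero => exact (preimage_empty_of_rank_zero hS (chart := chart) φ₀ z hz).elim
    | succ n =>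
      obtain ⟨U, hU, c, hzU, hc, hcov, hover⟩ := exists_charts hS hP hz φ₀
      obtain ⟨j, hj⟩ := hcov z hzU
      haveI := hc j
      refine ⟨(c j).opensRange, hj, ?_⟩
      haveI : Smooth (Spec.map (CommRingCat.ofHom (C : Γ(X, U) →+* Pol Γ(X, U) n))) := by
        rw [HasRingHomProperty.Spec_iff (P := @Smooth)]
        show RingHom.Smooth (algebraMap Γ(X, U) (Pol Γ(X, U) n))
        exact (RingHom.smooth_algebraMap).2 ⟨inferInstance, inferInstance⟩
      haveI : Smooth (c j ≫ p) := by rw [hover j]; infer_instance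
      rw [← IsOpenImmersion.isoOfRangeEq_inv_fac (c j) (c j).opensRange.ι (by simp)]
      rw [Category.assoc]
      infer_instance
  choose V hzV hV using h
  exact (IsZariskiLocalAtSource.iff_of_iSup_eq_top (P := (@Smooth.{u} : MorphismProperty Scheme.{u})) V
    (eq_top_iff.2 fun z _ => Opens.mem_iSup.2 ⟨z, hzV z⟩)).2 hV

end ProjSmoothLib
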