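import Groth.Agent.ProjSmoothLib.Basic
import Groth.Agent.S5729
import Groth.Agent.S1109
import Groth.Agent.OmegaAffLib.StalkCrit
import Groth.Agent.FinLFAnnLib.Main
import Groth.Agent.BlowUpLib.RegBlow
import Groth.Agent.S8855
import Groth.Prelude.Def_PerfAux
import Mathlib

/-!
# Smooth projective ambient schemes for projective morphisms
-/

set_option autoImplicit false
set_option linter.style.haveILetI false
set_option backward.isDefEq.respectTransparency.types false

universe u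

open AlgebraicGeometry CategoryTheory CategoryTheory.Limits Opposite TopologicalSpace
open scoped HomogeneousIdeal

noncomputable section

namespace ProjSmoothLib

/-- A finitely generated quasi-coherent module receiving an epimorphism from a locally free one gives an
embedding in a smooth projective bundle. -/
theorem exists_embedding {X Y : Scheme.{u}} [IsLocallyNoetherian Y] (hres : PerfAux.HasResolutionProperty Y)
    (f : X ⟶ Y) (hf : RelProj.IsProjective f) :
    ∃ (P : Scheme.{u}) (i : X ⟶ P) (p : P ⟶ Y),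
      IsClosedImmersion i ∧ Smooth p ∧ RelProj.IsProjective p ∧ i ≫ p = f := by
  classical
  obtain ⟨𝒮, PS, pS, chartS, e, hgen, hft, hPS, hep⟩ := hf
  let M := EGA2SymLib.degPart 𝒮 1
  haveI : Coh.IsQCoh M := EGA2SymLib.isQCoh_degPart 𝒮 1
  have hM : CohB1.IsFT M := by
    refine QCohLib.isFT_of_finite fun z => ?_
    obtain ⟨U, hU, hzU, -⟩ := exists_isAffineOpen_mem_and_subset (X := Y) (x := z) (U := ⊤) trivial
    refine ⟨U, hU, hzU, ?_⟩
    obtain ⟨T, hT, hspan⟩ := hft U hU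
    choose g hg using fun t : T => EGA2SymLib.exists_degIncl_eq 𝒮 1 hU (hT t.2)
    refine ⟨⟨Finset.univ.image g, eq_top_iff.mpr fun m _ => ?_⟩⟩
    obtain ⟨c, hc⟩ := hspan _ (EGA2SymLib.degIncl_mem 𝒮 1 hU m)
    have hm : m = ∑ t : T, c t.1 • g t := by
      refine (EGA2SymLib.degLoc 𝒮 1).ι_app_injective _ (hc.trans ?_)
      rw [map_sum, ← Finset.sum_coe_sort T]
      refine Finset.sum_congr rfl fun t _ => ?_
      rw [QCohLib.app_smul, hg t]
      rfl
    rw [hm]
    exact Submodule.sum_mem _ fun t _ => Submodule.smul_mem _ _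
      (Submodule.subset_span (Finset.mem_coe.mpr (Finset.mem_image_of_mem g (Finset.mem_univ t))))
  obtain ⟨E, π, hEfree, hπ⟩ := hres M inferInstance hM
  haveI := hπ
  haveI : Coh.IsQCoh E := FinLFAnn.isQCoh_of_isFinLocFree hEfree
  have hsur : ∀ (U : Y.Opens) (hU : IsAffineOpen U) (b : 𝒮.presheaf.obj (op U)), b ∈ 𝒮.deg U hU 1 →
      ∃ x : Γ(E, U), ((π ≫ EGA2SymLib.degIncl 𝒮 1).app U) x = b := fun U hU b hb => by
    obtain ⟨m, hm⟩ := EGA2SymLib.exists_degIncl_eq 𝒮 1 hU hb
    obtain ⟨x, rfl⟩ := OmegaAffLib.surjective_app_of_epi π hU m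
    exact ⟨x, hm⟩
  obtain ⟨𝒯, j, hT⟩ := EGA2SymLib.exists_isGrSymAlg E
  obtain ⟨ubar, hju, -⟩ := hT.1 𝒮.toQCAlg (π ≫ EGA2SymLib.degIncl 𝒮 1)
  have hju' : ∀ (U : Y.Opens) (m : Γ(E, U)), (ubar.hom.app (op U)).hom (j.app U m) =
      (π ≫ EGA2SymLib.degIncl 𝒮 1).app U m := fun U m => congrArg (fun φ => φ.app U m) hju
  have hubar : RelProj.IsGradedHom ubar := by
    intro U hU d x hx
    refine EGA2SymLib.map_mem_of_gen (ubar.hom.app (op U)).hom (SymGenLib.isGenDegOne hT U hU) (fun y hy => ?_)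
      (fun y hy => ?_) hx
    · obtain ⟨a, rfl⟩ := EGA2SymLib.exists_of_mem_zero hT hU hy
      rw [show (ubar.hom.app (op U)).hom ((𝒯.str.app (op U)).hom a) = (𝒮.str.app (op U)).hom a from
        congr($(ubar.comm).app (op U) a)]
      exact 𝒮.str_mem U hU a
    · obtain ⟨m, rfl⟩ := EGA2SymLib.exists_of_mem_one hT U hU hy
      rw [hju']
      exact EGA2SymLib.degIncl_mem 𝒮 1 hU _
  have hps : ∀ (U : Y.Opens) (hU : IsAffineOpen U),
      EGA2SymLib.PosSurj (RelProj.gradedHomAt ubar hubar U hU) := fun U hU =>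
    EGA2SymLib.posSurj_of_gen _ (hgen U hU) fun b hb => by
      obtain ⟨m, hm⟩ := hsur U hU b hb
      exact ⟨j.app U m, hT.2 U hU m, (hju' U m).trans hm⟩
  have hirr : ∀ (U : Y.Opens) (hU : IsAffineOpen U),
      (𝒮.deg U hU)₊ ≤ ((𝒯.deg U hU)₊).map (RelProj.gradedHomAt ubar hubar U hU) := fun U hU => by
    refine (HomogeneousIdeal.irrelevant_le _).mpr fun k hk b hb => ?_
    obtain ⟨a, ha, rfl⟩ := hps U hU k hk b hb
    exact Ideal.mem_map_of_mem _ (HomogeneousIdeal.mem_irrelevant_of_mem _ hk ha)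
  obtain ⟨P, p, chart, hP⟩ := MiscFlat6.exists_relProj 𝒯
  obtain ⟨⟨h, hh, -⟩, hover⟩ := Groth.Agent.S8262.result ubar hubar hirr p pS chart chartS hP hPS
  have := Groth.Agent.S8292.result 𝒮 𝒯 hgen E inferInstance (π ≫ EGA2SymLib.degIncl 𝒮 1)
    (fun U hU x => EGA2SymLib.degIncl_mem 𝒮 1 hU _) hsur
    j hT ubar hubar hju hirr p pS chart chartS hP hPS h hh
  have hsm : Smooth p := smooth_projBundle hEfree hT hP
  have hEft : CohB1.IsFT E := by
    refine QCohLib.isFT_of_finite fun z => ?_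
    obtain ⟨U₀, n, hz, ⟨φ₀⟩⟩ := hEfree z
    obtain ⟨U, hU, hzU, hle⟩ := exists_isAffineOpen_mem_and_subset (X := Y) (x := z) (U := U₀) hz
    obtain ⟨b⟩ := FittLib.nonempty_basis_of_iso E φ₀ (V := U) hle
    exact ⟨U, hU, hzU, Module.Finite.of_basis b⟩
  refine ⟨P, e.hom ≫ h, p, inferInstance, hsm, (Groth.Agent.S5729.result p).2
    ⟨E, 𝒯, j, P, p, chart, 𝟙 P, inferInstance, hEft, hT, hP, inferInstance, Category.id_comp p⟩, ?_⟩
  rw [Category.assoc, hover h hh, hep]

/-- An embedding of a morphism projective over a regular Noetherian separated base. -/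
theorem exists_embedding_regular {X Y : Scheme.{u}} (f : X ⟶ Y) [IsNoetherian Y] [Y.IsSeparated]
    (hY : ∀ y : Y, IsRegularLocalRing (Y.presheaf.stalk y)) (hf : RelProj.IsProjective f) :
    ∃ (P : Scheme.{u}) (i : X ⟶ P) (p : P ⟶ Y),
      IsClosedImmersion i ∧ Smooth p ∧ RelProj.IsProjective p ∧ i ≫ p = f :=
  exists_embedding (Groth.Agent.S1109.result Y hY fun U V hU hV => hU.inf hV) f hf

/-- An open subscheme of a closed subscheme is closed in an open subscheme. -/
theorem exists_open_closed {X Z P : Scheme.{u}} (v : X ⟶ Z) [IsOpenImmersion v] (i : Z ⟶ P) [IsClosedImmersion i] :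
    ∃ (W : P.Opens) (i' : X ⟶ W), IsClosedImmersion i' ∧ i' ≫ W.ι = v ≫ i := by
  let W : P.Opens := ⟨(i '' (Set.range v)ᶜ)ᶜ,
    (i.isClosedMap _ v.isOpenEmbedding.isOpen_range.isClosed_compl).isOpen_compl⟩
  have hW : i ⁻¹ᵁ W = v.opensRange := by
    ext z
    show z ∈ i ⁻¹' (i '' (Set.range v)ᶜ)ᶜ ↔ z ∈ Set.range v
    rw [Set.preimage_compl, Set.preimage_image_eq _ i.isClosedEmbedding.injective, compl_compl]
  haveI : IsClosedImmersion (i ∣_ W) := IsZariskiLocalAtTarget.restrict ‹_› W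
  let e : X ⟶ (i ⁻¹ᵁ W : Scheme.{u}) := (IsOpenImmersion.isoOfRangeEq v (i ⁻¹ᵁ W).ι (by rw [Scheme.Opens.range_ι, hW]; rfl)).hom
  refine ⟨W, e ≫ i ∣_ W, inferInstance, ?_⟩
  rw [Category.assoc, morphismRestrict_ι, ← Category.assoc, IsOpenImmersion.isoOfRangeEq_hom_fac]

/-- A closed subscheme with regular local rings of a scheme smooth over a regular one is regularly embedded. -/
theorem regular_of_smooth_regular {X P Y : Scheme.{u}} [IsLocallyNoetherian Y] (i : X ⟶ P) [IsClosedImmersion i]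
    (p : P ⟶ Y) [Smooth p] (hX : ∀ x : X, IsRegularLocalRing (X.presheaf.stalk x))
    (hY : ∀ y : Y, IsRegularLocalRing (Y.presheaf.stalk y)) :
    RegImm.IsRegularImmersion RegImm.Kind.regular i := by
  haveI : IsLocallyNoetherian P := LocallyOfFiniteType.isLocallyNoetherian p
  haveI : IsLocallyNoetherian X := LocallyOfFiniteType.isLocallyNoetherian i
  refine Groth.Agent.S8855.result i (fun x => ?_) hX
  haveI := hY (p x)
  exact BlowUpLib.isRegularLocalRing_stalk_of_smooth p x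

end ProjSmoothLib
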